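import Mathlib
import Groth.Agent.HLVTLib.Reduce
import Groth.Agent.HLVTLib.Connected
import Groth.Agent.MatlisLib.Basic

/-!
# Coassociated primes of the top local cohomology module
-/

set_option autoImplicit false
set_option linter.style.haveILetI false
set_option backward.isDefEq.respectTransparency false

universe u

open CategoryTheory IsLocalRing

noncomputable section

namespace Groth.Agent.TopAssLib

open LocCohLib HLVTLib

variable {R : Type u} [CommRing R] [IsNoetherianRing R]

/-- The map on local cohomology. -/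
abbrev Hmap (I : Ideal R) (i : ℕ) {N N' : Type u} [AddCommGroup N] [Module R N] [AddCommGroup N'] [Module R N']
    (f : N →ₗ[R] N') : LocCoh.H I i N →ₗ[R] LocCoh.H I i N' :=
  ((localCohomology I i).map (ModuleCat.ofHom f)).hom

omit [IsNoetherianRing R] in
theorem Hmap_comp (I : Ideal R) (i : ℕ) {N N' N'' : Type u} [AddCommGroup N] [Module R N] [AddCommGroup N']
    [Module R N'] [AddCommGroup N''] [Module R N''] (f : N →ₗ[R] N') (g : N' →ₗ[R] N'') (z : LocCoh.H I i N) :
    Hmap I i (g.comp f) z = Hmap I i g (Hmap I i f z) := by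
  show ((localCohomology I i).map (ModuleCat.ofHom f ≫ ModuleCat.ofHom g)).hom z = _
  rw [Functor.map_comp]
  rfl

omit [IsNoetherianRing R] in
theorem Hmap_smul (I : Ideal R) (i : ℕ) {N N' : Type u} [AddCommGroup N] [Module R N] [AddCommGroup N']
    [Module R N'] (a : R) (f : N →ₗ[R] N') (z : LocCoh.H I i N) :
    Hmap I i (a • f) z = a • Hmap I i f z := by
  show ((localCohomology I i).map (ModuleCat.ofHom f ≫ (a • 𝟙 (ModuleCat.of R N')))).hom z = _
  rw [Functor.map_comp]
  exact map_smul_id I i _ a _

omit [IsNoetherianRing R] in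
theorem Hmap_add (I : Ideal R) (i : ℕ) {N N' : Type u} [AddCommGroup N] [Module R N] [AddCommGroup N']
    [Module R N'] (f g : N →ₗ[R] N') (z : LocCoh.H I i N) :
    Hmap I i (f + g) z = Hmap I i f z + Hmap I i g z := by
  show ((localCohomology I i).map (ModuleCat.ofHom f + ModuleCat.ofHom g)).hom z = _
  rw [Functor.map_add]
  rfl

/-- Right exactness in the top degree. -/
theorem Hmap_surjective (I : Ideal R) (n : ℕ) {N N' : Type u} [AddCommGroup N] [Module R N] [AddCommGroup N']
    [Module R N'] (f : N →ₗ[R] N') (hf : Function.Surjective f)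
    (hker : Module.supportDim R (LinearMap.ker f) ≤ (n : WithBot ℕ∞)) : Function.Surjective (Hmap I n f) := by
  let S : ShortComplex (ModuleCat.{u} R) := ShortComplex.mk (ModuleCat.ofHom (LinearMap.ker f).subtype)
    (ModuleCat.ofHom f) (ModuleCat.hom_ext (LinearMap.ext fun x => x.2))
  have hS : S.ShortExact :=
    { exact := (ShortComplex.moduleCat_exact_iff _).mpr fun x hx => ⟨⟨x, hx⟩, rfl⟩
      mono_f := (ModuleCat.mono_iff_injective _).mpr Subtype.val_injective
      epi_g := (ModuleCat.epi_iff_surjective _).mpr hf }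
  haveI : Subsingleton ((localCohomology I (n + 1)).obj S.X₁ : Type u) :=
    subsingleton_of_supportDim_lt I (LinearMap.ker f) (n + 1)
      (hker.trans_lt (by exact_mod_cast Nat.lt_succ_self n))
  exact fun z => exists_of_δ_eq_zero I hS n z (Subsingleton.elim _ _)

/-- The middle of the long exact sequence. -/
theorem exists_Hmap_eq (I : Ideal R) (n : ℕ) {N : Type u} [AddCommGroup N] [Module R N] (K : Submodule R N)
    [Subsingleton (LocCoh.H I n (N ⧸ K))] (z : LocCoh.H I n N) : ∃ w, Hmap I n K.subtype w = z := by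
  let S : ShortComplex (ModuleCat.{u} R) := ShortComplex.mk (ModuleCat.ofHom K.subtype)
    (ModuleCat.ofHom K.mkQ) (ModuleCat.hom_ext (LinearMap.ext fun x => (Submodule.Quotient.mk_eq_zero K).2 x.2))
  have hS : S.ShortExact :=
    { exact := (ShortComplex.moduleCat_exact_iff _).mpr fun x hx => ⟨⟨x, (Submodule.Quotient.mk_eq_zero K).1 hx⟩, rfl⟩
      mono_f := (ModuleCat.mono_iff_injective _).mpr Subtype.val_injective
      epi_g := (ModuleCat.epi_iff_surjective _).mpr (Submodule.mkQ_surjective _) }
  exact exists_of_map_g_eq_zero I hS n z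
    (@Subsingleton.elim _ (‹Subsingleton (LocCoh.H I n (N ⧸ K))›) _ _)

theorem supportDim_le_of_annihilator (M : Type u) [AddCommGroup M] [Module R M] [Module.Finite R M]
    {n : WithBot ℕ∞} (hM : Module.supportDim R M ≤ n) (N : Type u) [AddCommGroup N] [Module R N] [Module.Finite R N]
    (h : Module.annihilator R M ≤ Module.annihilator R N) : Module.supportDim R N ≤ n := by
  rw [Module.supportDim_eq_ringKrullDim_quotient_annihilator] at hM ⊢
  exact (ringKrullDim_le_of_surjective (Ideal.Quotient.factor h) (Ideal.Quotient.factor_surjective _)).trans hM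

variable (I : Ideal R) (M : Type u) [AddCommGroup M] [Module R M] [Module.Finite R M] (n : ℕ)

theorem ann_le_smul_top (p : Ideal R) :
    Module.annihilator R M ⊔ p ≤ Module.annihilator R (M ⧸ (p • ⊤ : Submodule R M)) := by
  refine sup_le (fun r hr => ?_) fun r hr => ?_ <;> rw [Module.mem_annihilator] <;> intro z <;>
    obtain ⟨m, rfl⟩ := Submodule.mkQ_surjective _ z <;> rw [← map_smul]
  · rw [Module.mem_annihilator.1 hr m, map_zero]
  · exact (Submodule.Quotient.mk_eq_zero _).2 (Submodule.smul_mem_smul hr Submodule.mem_top)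

theorem eq_zero_of_subsingleton_quot (hn : Module.supportDim R M ≤ (n : WithBot ℕ∞)) (p : Ideal R)
    (hp : Subsingleton (LocCoh.H I n (M ⧸ (p • ⊤ : Submodule R M)))) {E : Type u} [AddCommGroup E] [Module R E]
    (φ : LocCoh.H I n M →ₗ[R] E) (hφ : ∀ a ∈ p, a • φ = 0) : φ = 0 := by
  classical
  obtain ⟨r, c, hc⟩ := Submodule.fg_iff_exists_fin_generating_family.1 (IsNoetherian.noetherian p)
  let g : (Fin r → M) →ₗ[R] M := ∑ j, c j • LinearMap.proj j
  have hg : ∀ v, g v = ∑ j, c j • v j := fun v => by simp [g]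
  have hcp : ∀ j, c j ∈ p := fun j => hc ▸ Submodule.subset_span ⟨j, rfl⟩
  let K : Submodule R M := p • ⊤
  have hgK : ∀ v, g v ∈ K := fun v => by
    rw [hg]
    exact Submodule.sum_mem _ fun j _ => Submodule.smul_mem_smul (hcp j) Submodule.mem_top
  have hKg : ∀ z ∈ K, ∃ v, g v = z := by
    have hle : K ≤ LinearMap.range g := Submodule.smul_le.2 fun a ha m _ => by
      rw [← hc] at ha
      obtain ⟨d, rfl⟩ := (Submodule.mem_span_range_iff_exists_fun R).1 ha
      refine ⟨fun j => d j • m, ?_⟩
      rw [hg, Finset.sum_smul]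
      exact Finset.sum_congr rfl fun j _ => by rw [smul_eq_mul, smul_smul, mul_comm]
    exact fun z hz => hle hz
  let g' : (Fin r → M) →ₗ[R] K := g.codRestrict K hgK
  have hg' : Function.Surjective g' := fun z => by
    obtain ⟨v, hv⟩ := hKg z.1 z.2
    exact ⟨v, Subtype.ext hv⟩
  have hker : Module.supportDim R (LinearMap.ker g') ≤ (n : WithBot ℕ∞) := by
    refine supportDim_le_of_annihilator M hn _ fun a ha => ?_
    rw [Module.mem_annihilator] at ha ⊢
    exact fun v => Subtype.ext (funext fun j => ha _)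
  have hsum : ∀ (s : Finset (Fin r)) (w : LocCoh.H I n (Fin r → M)),
      φ (Hmap I n (∑ j ∈ s, c j • (LinearMap.proj j : (Fin r → M) →ₗ[R] M)) w) = 0 := by
    intro s w
    induction s using Finset.induction_on with
    | empty =>
      rw [Finset.sum_empty, show Hmap I n (0 : (Fin r → M) →ₗ[R] M) w = 0 from by
        rw [← zero_smul R (0 : (Fin r → M) →ₗ[R] M), Hmap_smul, zero_smul], map_zero]
    | insert j s hj ih =>
      rw [Finset.sum_insert hj, Hmap_add, map_add, ih, add_zero]
      rw [Hmap_smul, map_smul, ← LinearMap.smul_apply, hφ _ (hcp j), LinearMap.zero_apply]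
  refine LinearMap.ext fun z => ?_
  obtain ⟨w, rfl⟩ := exists_Hmap_eq I n K z
  obtain ⟨v, rfl⟩ := Hmap_surjective I n g' hg' hker w
  rw [← Hmap_comp, LinearMap.zero_apply]
  exact hsum Finset.univ v

variable [IsLocalRing R]

/-- Top cohomology of `M / pM` survives only at top-dimensional `p` meeting `V(I)` in the closed point. -/
theorem of_nontrivial [IsAdicComplete (maximalIdeal R) R] (hn : Module.supportDim R M ≤ (n : WithBot ℕ∞))
    (p : Ideal R) [p.IsPrime] (hann : Module.annihilator R M ≤ p)
    (h : ¬ Subsingleton (LocCoh.H I n (M ⧸ (p • ⊤ : Submodule R M)))) :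
    ringKrullDim (R ⧸ p) = n ∧ (I ⊔ p).radical = maximalIdeal R := by
  let N := M ⧸ (p • ⊤ : Submodule R M)
  have hp_le : ringKrullDim (R ⧸ p) ≤ (n : WithBot ℕ∞) := by
    rw [Module.supportDim_eq_ringKrullDim_quotient_annihilator] at hn
    exact (ringKrullDim_le_of_surjective (Ideal.Quotient.factor hann) (Ideal.Quotient.factor_surjective _)).trans hn
  have hdim : ringKrullDim (R ⧸ p) = n := by
    by_contra hne
    refine h (subsingleton_of_supportDim_lt I N n ?_)
    rw [Module.supportDim_eq_ringKrullDim_quotient_annihilator]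
    exact ((ringKrullDim_le_of_surjective (Ideal.Quotient.factor (le_sup_right.trans (ann_le_smul_top M p)))
      (Ideal.Quotient.factor_surjective _)).trans_lt (lt_of_le_of_ne hp_le hne))
  refine ⟨hdim, ?_⟩
  by_contra hrad
  by_cases htop : I ⊔ p = ⊤
  · refine h ?_
    haveI : IsLocalRing (R ⧸ p) := IsLocalRing.of_surjective' _ Ideal.Quotient.mk_surjective
    have hI : I = ⊤ := by
      by_contra hI
      exact (maximalIdeal.isMaximal R).ne_top
        (top_le_iff.1 (htop ▸ sup_le (le_maximalIdeal hI) (le_maximalIdeal (Ideal.IsPrime.ne_top inferInstance))))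
    subst hI
    exact subsingleton_top n _
  have h1 : 1 ≤ ringKrullDim (R ⧸ (I ⊔ p)) := by
    by_contra h0
    refine hrad (HLVTLib.radical_eq_of_dim_le_zero htop ?_)
    obtain ⟨e, he⟩ := HLVTLib.exists_nat_dim htop
    rw [he] at h0 ⊢
    have : e < 1 := by exact_mod_cast not_le.1 h0
    exact_mod_cast Nat.lt_one_iff.1 this |>.le
  refine h ?_
  haveI : IsLocalRing (R ⧸ p) := IsLocalRing.of_surjective' _ Ideal.Quotient.mk_surjective
  haveI : IsAdicComplete (maximalIdeal (R ⧸ p)) (R ⧸ p) := FiniteCompleteLib.isAdicComplete_maximalIdeal R (R ⧸ p)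
  rw [subsingleton_H_quot_iff I p n N]
  exact subsingleton_H_of_domain (R ⧸ p) hdim _ (by rwa [ringKrullDim_quot_map]) N n le_rfl

theorem nontrivial_quot (hn : Module.supportDim R M ≤ (n : WithBot ℕ∞)) (p : Ideal R) [p.IsPrime]
    (hann : Module.annihilator R M ≤ p) (hdim : ringKrullDim (R ⧸ p) = n)
    (hrad : (I ⊔ p).radical = maximalIdeal R) :
    ¬ Subsingleton (LocCoh.H I n (M ⧸ (p • ⊤ : Submodule R M))) := by
  intro h
  let N := M ⧸ (p • ⊤ : Submodule R M)
  have hIne : I ≠ ⊤ := fun e => (maximalIdeal.isMaximal R).ne_top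
    (by rw [← hrad, e, top_sup_eq, Ideal.radical_top])
  have hmem : (⟨p, inferInstance⟩ : PrimeSpectrum R) ∈ Module.support R N := by
    rw [Module.support_quotient, Module.support_eq_zeroLocus]
    exact ⟨hann, fun z hz => hz⟩
  haveI : Module.Finite (R ⧸ p) N := Module.Finite.of_restrictScalars_finite R _ N
  haveI : (⊥ : Ideal (R ⧸ p)).IsPrime := Ideal.isPrime_bot
  have hmem' : (⟨⊥, inferInstance⟩ : PrimeSpectrum (R ⧸ p)) ∈ Module.support (R ⧸ p) N := by
    rw [Module.mem_support_iff_of_finite]
    intro a ha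
    obtain ⟨a, rfl⟩ := Ideal.Quotient.mk_surjective a
    refine Ideal.Quotient.eq_zero_iff_mem.2 (Module.mem_support_iff_of_finite.1 hmem ?_)
    rw [Module.mem_annihilator] at ha ⊢
    exact fun z => ha z
  rw [subsingleton_H_quot_iff I p n N] at h
  have h2 := subsingleton_H_quot_of_module (I.map (algebraMap R (R ⧸ p))) hdim.le N ⊥
    ((ringKrullDim_eq_of_ringEquiv (RingEquiv.quotientBot (R ⧸ p))).trans hdim) hmem' h
  have h3 := subsingleton_H_congr _ n (Submodule.quotEquivOfEqBot (⊥ : Ideal (R ⧸ p)) rfl) h2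
  rw [← subsingleton_H_quot_iff I p n (R ⧸ p)] at h3
  have h4 := one_le_of_subsingleton_H_quot I p hIne hdim h3
  have h5 : ringKrullDim (R ⧸ (I ⊔ p)) ≤ 0 := by
    have hfac : (maximalIdeal R) ≤ (I ⊔ p).radical := hrad.ge
    haveI : Subsingleton (PrimeSpectrum.zeroLocus ((I ⊔ p : Ideal R) : Set R)) := ⟨fun a b => Subtype.ext (PrimeSpectrum.ext (by
      have key : ∀ x : PrimeSpectrum.zeroLocus ((I ⊔ p : Ideal R) : Set R), x.1.asIdeal = maximalIdeal R := fun x =>
        le_antisymm (le_maximalIdeal x.1.isPrime.ne_top)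
          (hfac.trans (x.1.isPrime.radical_le_iff.2 x.2))
      rw [key a, key b]))⟩
    rw [ringKrullDim_quotient]
    exact Order.krullDim_nonpos_of_subsingleton
  exact absurd (h4.trans h5) (by simp)

/-- **Coassociated primes of the top local cohomology.** -/
theorem associatedPrimes_dual [IsAdicComplete (maximalIdeal R) R] {E : Type u} [AddCommGroup E] [Module R E]
    {f : ResidueField R →ₗ[R] E} (hf : InjHull.IsInjectiveHull f) (hn : Module.supportDim R M ≤ (n : WithBot ℕ∞)) :
    associatedPrimes R (LocCoh.H I n M →ₗ[R] E) =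
      {p : Ideal R | p.IsPrime ∧ Module.annihilator R M ≤ p ∧ ringKrullDim (R ⧸ p) = n ∧
        (I ⊔ p).radical = maximalIdeal R} := by
  ext p
  rw [AssociatedPrimes.mem_iff, isAssociatedPrime_iff]
  constructor
  · rintro ⟨hp, φ, hφ⟩
    haveI := hp
    have hmem : ∀ a, a ∈ p ↔ a • φ = 0 := fun a => by
      rw [hφ, Submodule.mem_colon_singleton, Submodule.mem_bot]
    have hann : Module.annihilator R M ≤ p := fun a ha => by
      rw [hmem]
      refine LinearMap.ext fun z => ?_
      rw [LinearMap.smul_apply, LinearMap.zero_apply, ← map_smul]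
      have h0 : a • (LinearMap.id : M →ₗ[R] M) = 0 := LinearMap.ext fun m => Module.mem_annihilator.1 ha m
      have h1 := Hmap_smul I n a (LinearMap.id : M →ₗ[R] M) z
      rw [h0, show Hmap I n (0 : M →ₗ[R] M) z = 0 from by
        rw [← zero_smul R (0 : M →ₗ[R] M), Hmap_smul, zero_smul],
        show Hmap I n (LinearMap.id : M →ₗ[R] M) z = z from by
          show ((localCohomology I n).map (𝟙 (ModuleCat.of R M))).hom z = z
          rw [CategoryTheory.Functor.map_id]
          rfl] at h1
      rw [← h1, map_zero]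
    refine ⟨hp, hann, of_nontrivial I M n hn p hann fun h => ?_⟩
    have h0 := eq_zero_of_subsingleton_quot I M n hn p h φ fun a ha => (hmem a).1 ha
    exact hp.ne_top ((Ideal.eq_top_iff_one p).2 ((hmem 1).2 (by rw [h0, smul_zero])))
  · rintro ⟨hp, hann, hdim, hrad⟩
    haveI := hp
    have hN := nontrivial_quot I M n hn p hann hdim hrad
    let N := M ⧸ (p • ⊤ : Submodule R M)
    let q : M →ₗ[R] N := (p • ⊤ : Submodule R M).mkQ
    have hq : Function.Surjective (Hmap I n q) := Hmap_surjective I n q (Submodule.mkQ_surjective _)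
      (supportDim_le_of_annihilator M hn _ fun a ha => Module.mem_annihilator.2 fun v =>
        Subtype.ext (Module.mem_annihilator.1 ha v.1))
    obtain ⟨ψ, hψ⟩ : ∃ ψ : LocCoh.H I n N →ₗ[R] E, ψ ≠ 0 := by
      by_contra hcon
      refine hN (subsingleton_of_forall_eq 0 fun z => ?_)
      refine InjHullLib.eval_injective hf (LocCoh.H I n N) (LinearMap.ext fun h => ?_)
      rw [show h = 0 from by_contra fun hne => hcon ⟨h, hne⟩, map_zero, map_zero]
    refine ⟨hp, ψ.comp (Hmap I n q), Ideal.ext fun a => ?_⟩
    rw [Submodule.mem_colon_singleton, Submodule.mem_bot]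
    constructor
    · intro ha
      refine LinearMap.ext fun z => ?_
      rw [LinearMap.smul_apply, LinearMap.comp_apply, LinearMap.zero_apply, ← map_smul, ← Hmap_smul]
      have h0 : a • q = 0 := LinearMap.ext fun m => (Submodule.Quotient.mk_eq_zero _).2
        (Submodule.smul_mem_smul ha Submodule.mem_top)
      rw [h0, show Hmap I n (0 : M →ₗ[R] N) z = 0 from by
        rw [← zero_smul R (0 : M →ₗ[R] N), Hmap_smul, zero_smul], map_zero]
    · intro h
      by_contra ha
      refine hψ (LinearMap.ext fun y => ?_)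
      let g : N →ₗ[R] N := a • LinearMap.id
      let K := LinearMap.range g
      -- `a` acts surjectively on the top cohomology of `M / pM`
      haveI : Subsingleton (LocCoh.H I n (N ⧸ K)) := by
        refine subsingleton_of_supportDim_lt I (N ⧸ K) n ?_
        have hle : p ⊔ Ideal.span {a} ≤ Module.annihilator R (N ⧸ K) := by
          refine sup_le (fun r hr => ?_) ((Ideal.span_singleton_le_iff_mem _).2 ?_) <;>
            rw [Module.mem_annihilator] <;> intro z <;> obtain ⟨v, rfl⟩ := Submodule.mkQ_surjective _ z <;>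
            rw [← map_smul]
          · have : r • v = 0 := Module.mem_annihilator.1 ((le_sup_right.trans (ann_le_smul_top M p)) hr) v
            rw [this, map_zero]
          · exact (Submodule.Quotient.mk_eq_zero _).2 ⟨v, rfl⟩
        rw [Module.supportDim_eq_ringKrullDim_quotient_annihilator]
        refine (ringKrullDim_le_of_surjective (Ideal.Quotient.factor hle) (Ideal.Quotient.factor_surjective _)).trans_lt ?_
        by_cases htop : p ⊔ Ideal.span {a} = ⊤
        · haveI : Subsingleton (R ⧸ (p ⊔ Ideal.span {a})) := Ideal.Quotient.subsingleton_iff.2 htop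
          rw [ringKrullDim_eq_bot_of_subsingleton]
          exact WithBot.bot_lt_coe _
        obtain ⟨e, he⟩ := HLVTLib.exists_nat_dim htop
        have h1 := HLVTLib.dim_succ_le_of_mem (Q := p) (J := p ⊔ Ideal.span {a}) le_sup_left
          (Submodule.mem_sup_right (Ideal.mem_span_singleton_self a)) ha
        rw [he, hdim] at h1
        rw [he]
        have h2 : e + 1 ≤ n := by exact_mod_cast h1
        exact_mod_cast (by omega : e < n)
      let g' : N →ₗ[R] K := g.rangeRestrict
      have hg' : Function.Surjective (Hmap I n g') := Hmap_surjective I n g' g.surjective_rangeRestrict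
        (supportDim_le_of_annihilator M hn _ fun c hc => Module.mem_annihilator.2 fun v =>
          Subtype.ext (Module.mem_annihilator.1 ((le_sup_left.trans (ann_le_smul_top M p)) hc) v.1))
      obtain ⟨w, rfl⟩ := exists_Hmap_eq I n K y
      obtain ⟨v, rfl⟩ := hg' w
      obtain ⟨z, rfl⟩ := hq v
      rw [← Hmap_comp, show K.subtype.comp g' = g from rfl, Hmap_smul,
        show Hmap I n (LinearMap.id : N →ₗ[R] N) (Hmap I n q z) = Hmap I n q z from by
          rw [← Hmap_comp, LinearMap.id_comp], map_smul, LinearMap.zero_apply]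
      exact LinearMap.congr_fun h z

end Groth.Agent.TopAssLib
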